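import Mathlib
import Cfsg.Agent.H917.Conj.Basic
import Cfsg.Agent.SmallSimple.PrimeDual
import Cfsg.Agent.FastGrp
import Cfsg.Agent.Prune
set_option linter.all false
prune_inst 0x7f00000000000000000000000000000000000000000000000000000000000000000000000000000000000000000000000000000000000000000000000000000000000000000000000000000000000000003fffffffffffffffffffffffffffbeffbdfbfeffff
open scoped Cfsg.Agent.FastGrp

/-!
# The conjugation character: groups with a CC-subgroup (helper937)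

`C ≠ 1` with `C_G(c) = C` for all `1 ≠ c ∈ C`, `t = |C|`, `|N(C)| = w t`.

* `Cfsg.Agent.H430.Conj.row_of_cc'` : a nontrivial irreducible character without `C`-fixed vectors has degree
  `k (t - 1)` with `k ^ 2 (t - 1) < w t`, or degree `w n` with `n ^ 2 < t`;
* `Cfsg.Agent.H430.Conj.row_of_cc` : the basic form.
-/

set_option autoImplicit false
set_option linter.unusedSectionVars false

open Cfsg
open scoped ComplexConjugate

namespace Cfsg.Agent.H937.CC

open Cfsg.Agent.Characters.Core Cfsg.Agent.Characters.Linear Cfsg.Agent.SmallSimple.PrimeDual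

universe u

/-! ### Characters of an abelian group -/

section ab

variable {Q : Type u} [Group Q] [Finite Q]

theorem card_dual' (hc : ∀ a b : Q, a * b = b * a) : Nat.card (Q →* ℂˣ) = Nat.card Q := by
  rw [card_hom_eq_index_commutator]
  have : commutator Q = ⊥ := by
    rw [commutator_def, Subgroup.commutator_eq_bot_iff_le_centralizer]
    intro x _
    rw [Subgroup.mem_centralizer_iff]
    intro y _
    exact hc y x
  rw [this, Subgroup.index_bot]

theorem finite_dual' (hc : ∀ a b : Q, a * b = b * a) : Finite (Q →* ℂˣ) :=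
  Nat.finite_of_card_ne_zero (by rw [card_dual' hc]; exact Nat.card_pos.ne')

/-- Every irreducible character of an abelian group is linear. -/
theorem irr_eq_hom' (hc : ∀ a b : Q, a * b = b * a) (χ : IrrCharacter Q) :
    ∃ l : Q →* ℂˣ, (χ : Q → ℂ) = fun x => ((l x : ℂˣ) : ℂ) := by
  classical
  have : Finite (IrrCharacter Q) := finite_irr
  have hcard : Nat.card {χ : IrrCharacter Q // (χ : Q → ℂ) 1 = 1} = Nat.card (IrrCharacter Q) := by
    rw [← Nat.card_congr (linearEquiv Q), card_dual' hc, card_irr]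
    have h2 : Function.Injective (ConjClasses.mk : Q → ConjClasses Q) := by
      intro a b hab
      rw [ConjClasses.mk_eq_mk_iff_isConj, isConj_iff] at hab
      obtain ⟨c, hc'⟩ := hab
      rw [hc c a, mul_inv_cancel_right] at hc'
      exact hc'
    rw [← Nat.card_congr (Equiv.ofBijective _ ⟨h2, ConjClasses.mk_surjective⟩)]
  have h1 : (χ : Q → ℂ) 1 = 1 := by
    by_contra hne
    have hlt : Nat.card {χ : IrrCharacter Q // (χ : Q → ℂ) 1 = 1} < Nat.card (IrrCharacter Q) :=
      Finite.card_subtype_lt (x := χ) hne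
    omega
  exact exists_hom_of_isIrrCharacter χ.2 h1

/-- A character of an abelian group is a combination of linear characters with natural coefficients. -/
theorem exists_mult' (hc : ∀ a b : Q, a * b = b * a) [Fintype (Q →* ℂˣ)] {χ : Q → ℂ}
    (hχ : IsCharacter Q χ) :
    ∃ m : (Q →* ℂˣ) → ℕ, ∀ x : Q, χ x = ∑ l : Q →* ℂˣ, (m l : ℂ) * ((l x : ℂˣ) : ℂ) := by
  classical
  have := finite_irr (G := Q)
  have := Fintype.ofFinite (IrrCharacter Q)
  obtain ⟨m, hm⟩ := exists_nat_comb hχ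
  let φ : (Q →* ℂˣ) → IrrCharacter Q := fun l => ⟨fun x => ((l x : ℂˣ) : ℂ), isIrrCharacter_hom l⟩
  have hφ : Function.Bijective φ := by
    constructor
    · intro l l' h
      have h' : (fun g => (l g : ℂ)) = fun g => (l' g : ℂ) := congrArg Subtype.val h
      ext g
      exact congrFun h' g
    · intro χ
      obtain ⟨l, hl⟩ := irr_eq_hom' hc χ
      exact ⟨l, Subtype.ext hl.symm⟩
  refine ⟨fun l => m (φ l), fun x => ?_⟩
  rw [hm, Finset.sum_apply, ← Fintype.sum_equiv (Equiv.ofBijective φ hφ)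
    (fun l => (m (φ l) : ℂ) * ((l x : ℂˣ) : ℂ))]
  intro l
  simp [φ]

/-- Parseval. -/
theorem sum_normSq [Fintype Q] [Fintype (Q →* ℂˣ)] {χ : Q → ℂ} {m : (Q →* ℂˣ) → ℕ}
    (h : ∀ x : Q, χ x = ∑ l : Q →* ℂˣ, (m l : ℂ) * ((l x : ℂˣ) : ℂ)) :
    ∑ x : Q, Complex.normSq (χ x) = Nat.card Q * ∑ l : Q →* ℂˣ, (m l : ℝ) ^ 2 := by
  have h1 : ((∑ x : Q, Complex.normSq (χ x) : ℝ) : ℂ) = ((Nat.card Q * ∑ l : Q →* ℂˣ, (m l : ℝ) ^ 2 : ℝ) : ℂ) := by
    push_cast
    have h2 : ∀ x : Q, (Complex.normSq (χ x) : ℂ) = ∑ l : Q →* ℂˣ, (m l : ℂ) * (χ x * conj ((l x : ℂˣ) : ℂ)) := by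
      intro x
      rw [Complex.normSq_eq_conj_mul_self, mul_comm]
      nth_rewrite 2 [h x]
      rw [map_sum, Finset.mul_sum]
      refine Finset.sum_congr rfl fun l _ => ?_
      rw [map_mul, Complex.conj_natCast]
      ring
    simp only [h2]
    rw [Finset.sum_comm, Finset.mul_sum]
    refine Finset.sum_congr rfl fun l _ => ?_
    rw [← Finset.mul_sum, sum_mul_conj_of_mult (m := fun l => (m l : ℂ)) h l]
    ring
  exact_mod_cast h1

end ab

/-! ### The combinatorial lemma -/

/-- The variance of a non-constant family of integers. -/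
theorem variance {Ω : Type*} [Fintype Ω] (n : Ω → ℤ) {a b : Ω} (hab : n a ≠ n b) :
    (∑ i, n i) ^ 2 + (Fintype.card Ω - 1) ≤ Fintype.card Ω * ∑ i, n i ^ 2 := by
  classical
  let e : Ω → ℤ := fun i => n i - n a
  have h1 : ∑ i, n i = ∑ i, e i + Fintype.card Ω * n a := by
    have h0 : ∑ i, e i = ∑ i, n i - Fintype.card Ω * n a := by
      rw [Finset.sum_congr rfl fun i _ => show e i = n i - n a from rfl, Finset.sum_sub_distrib, Finset.sum_const,
        Finset.card_univ, nsmul_eq_mul]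
    rw [h0]
    ring
  have h2 : ∑ i, n i ^ 2 = ∑ i, e i ^ 2 + 2 * n a * ∑ i, e i + Fintype.card Ω * n a ^ 2 := by
    have : ∀ i, n i ^ 2 = e i ^ 2 + 2 * n a * e i + n a ^ 2 := fun i => by
      change n i ^ 2 = (n i - n a) ^ 2 + 2 * n a * (n i - n a) + n a ^ 2
      ring
    rw [Finset.sum_congr rfl fun i _ => this i, Finset.sum_add_distrib, Finset.sum_add_distrib, ← Finset.mul_sum, Finset.sum_const, Finset.card_univ,
      nsmul_eq_mul]
  set s : Finset Ω := Finset.univ.filter fun i => e i ≠ 0 with hs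
  have h3 : ∑ i, e i = ∑ i ∈ s, e i := by
    rw [hs, Finset.sum_filter_ne_zero]
  have h4 : ∑ i, e i ^ 2 = ∑ i ∈ s, e i ^ 2 := by
    rw [hs]
    symm
    apply Finset.sum_subset (Finset.subset_univ _)
    intro i _ hi
    rw [Finset.mem_filter, not_and, not_not] at hi
    rw [hi (Finset.mem_univ i)]
    ring
  have h5 : (∑ i ∈ s, e i) ^ 2 ≤ s.card * ∑ i ∈ s, e i ^ 2 := sq_sum_le_card_mul_sum_sq
  have h6 : (s.card : ℤ) ≤ ∑ i ∈ s, e i ^ 2 := by
    rw [← nsmul_one, ← Finset.sum_const]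
    apply Finset.sum_le_sum
    intro i hi
    have : e i ≠ 0 := (Finset.mem_filter.1 hi).2
    have := Int.one_le_abs this
    nlinarith only [this, sq_abs (e i)]
  have h7 : 1 ≤ (s.card : ℤ) := by
    have : b ∈ s := Finset.mem_filter.2 ⟨Finset.mem_univ b, fun h => hab (sub_eq_zero.1 h).symm⟩
    exact_mod_cast Finset.card_pos.2 ⟨b, this⟩
  have h8 : (s.card : ℤ) + 1 ≤ Fintype.card Ω := by
    have : a ∉ s := fun h => (Finset.mem_filter.1 h).2 (sub_self _)
    have h9 := Finset.card_lt_univ_of_notMem this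
    exact_mod_cast h9
  rw [h1, h2, h3, h4]
  set S := ∑ i ∈ s, e i
  set T := ∑ i ∈ s, e i ^ 2
  set r : ℤ := ((Fintype.card Ω : ℕ) : ℤ)
  set c : ℤ := ((s.card : ℕ) : ℤ)
  have h9 : (S + r * n a) ^ 2 = S ^ 2 + r * (2 * n a * S + r * n a ^ 2) := by ring
  have h10 : S ^ 2 + (r - 1) ≤ r * T := by
    linarith only [h5, mul_nonneg (sub_nonneg.2 h6) (sub_nonneg.2 (show c ≤ r by linarith)), mul_nonneg (sub_nonneg.2 h7) (sub_nonneg.2 h8)]
  rw [h9]
  linarith only [h10]

/-- The arithmetic of the two cases. -/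
theorem arith {Ω : Type*} [Fintype Ω] (n : Ω → ℕ) {t w : ℕ} (hw : 0 < w) (ht : t = w * Fintype.card Ω + 1) (ht2 : 2 ≤ t)
    (h : t * ∑ i, n i ^ 2 < t + w * (∑ i, n i) ^ 2) :
    (∑ i, n i) ^ 2 < t ∨ ∃ k : ℕ, (∀ i, n i = k) ∧ k ^ 2 * (t - 1) < w * t := by
  by_cases hc : ∃ a b, n a ≠ n b
  · left
    obtain ⟨a, b, hab⟩ := hc
    have hv := variance (fun i => (n i : ℤ)) (a := a) (b := b) (by exact_mod_cast hab)
    have h' : (t : ℤ) * ∑ i, (n i : ℤ) ^ 2 < t + w * (∑ i, (n i : ℤ)) ^ 2 := by exact_mod_cast h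
    have ht' : (t : ℤ) = w * Fintype.card Ω + 1 := by exact_mod_cast ht
    set S : ℤ := ∑ i, (n i : ℤ) with hS
    set T : ℤ := ∑ i, (n i : ℤ) ^ 2 with hT
    set r : ℤ := ((Fintype.card Ω : ℕ) : ℤ) with hr
    have hw' : (0 : ℤ) < w := by exact_mod_cast hw
    have h1 : (w : ℤ) * (S ^ 2 + (r - 1)) ≤ w * (r * T) := mul_le_mul_of_nonneg_left hv hw'.le
    have h2 : T ≤ w := by
      rw [ht'] at h'
      linarith only [h', h1]
    have hr1 : 1 ≤ r := by
      by_contra hlt
      have : r = 0 := by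
        have : 0 ≤ r := Int.natCast_nonneg _
        omega
      rw [this] at ht'
      have : (2 : ℤ) ≤ t := by exact_mod_cast ht2
      omega
    have h3 : S ^ 2 < t := by
      have : r * T ≤ r * w := mul_le_mul_of_nonneg_left h2 (by linarith only [hr1])
      rw [ht']
      linarith only [hv, hr1, this]
    have h4 : (((∑ i, n i) ^ 2 : ℕ) : ℤ) < t := by
      push_cast
      exact h3
    exact_mod_cast h4
  · right
    push Not at hc
    have hr1 : 0 < Fintype.card Ω := by
      rcases Nat.eq_zero_or_pos (Fintype.card Ω) with h0 | h0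
      · rw [h0] at ht; omega
      · exact h0
    obtain ⟨a⟩ := Fintype.card_pos_iff.1 hr1
    refine ⟨n a, fun i => hc i a, ?_⟩
    have h1 : ∑ i, n i = Fintype.card Ω * n a := by
      rw [Finset.sum_congr rfl fun i _ => hc i a, Finset.sum_const, Finset.card_univ, smul_eq_mul]
    have h2 : ∑ i, n i ^ 2 = Fintype.card Ω * n a ^ 2 := by
      rw [Finset.sum_congr rfl fun i _ => by rw [hc i a], Finset.sum_const, Finset.card_univ, smul_eq_mul]
    rw [h1, h2] at h
    set r := Fintype.card Ω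
    have h3 : t - 1 = w * r := by omega
    rw [h3]
    have h4 : r * n a ^ 2 < t := by
      have h5 : t * (r * n a ^ 2) = r * n a ^ 2 + w * (r * n a) ^ 2 := by
        rw [ht]; ring
      omega
    calc n a ^ 2 * (w * r) = w * (r * n a ^ 2) := by ring
      _ < w * t := Nat.mul_lt_mul_of_pos_left h4 hw

/-! ### CC-subgroups -/

section cc

variable {G : Type u} [Group G] {C : Subgroup G}

theorem comm_of_cc (hC : ∀ c ∈ C, c ≠ 1 → Subgroup.centralizer {c} = C) (a b : C) : a * b = b * a := by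
  by_cases ha : (a : G) = 1
  · have : a = 1 := Subtype.ext ha
    rw [this, one_mul, mul_one]
  · have hb : (b : G) ∈ Subgroup.centralizer {(a : G)} := by
      rw [hC a a.2 ha]
      exact b.2
    rw [Subgroup.mem_centralizer_singleton_iff] at hb
    exact Subtype.ext (by simpa only [_root_.Subgroup.coe_mul] using hb.symm)

theorem mem_normalizer_of_cc (hC : ∀ c ∈ C, c ≠ 1 → Subgroup.centralizer {c} = C) {g c : G} (hc : c ∈ C)
    (hc1 : c ≠ 1) (h : g * c * g⁻¹ ∈ C) : g ∈ Subgroup.normalizer (C : Set G) := by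
  rw [Subgroup.mem_normalizer_iff]
  intro x
  have h1 : g * c * g⁻¹ ≠ 1 := by
    intro h1
    exact hc1 (by rwa [conj_eq_one_iff] at h1)
  have e1 : x ∈ C ↔ x * c = c * x := by
    conv_lhs => rw [← hC c hc hc1]
    rw [Subgroup.mem_centralizer_singleton_iff, eq_comm]
  have e2 : g * x * g⁻¹ ∈ C ↔ (g * x * g⁻¹) * (g * c * g⁻¹) = (g * c * g⁻¹) * (g * x * g⁻¹) := by
    conv_lhs => rw [← hC _ h h1]
    rw [Subgroup.mem_centralizer_singleton_iff, eq_comm]
  rw [e1, e2]
  have e3 : (g * x * g⁻¹) * (g * c * g⁻¹) = g * (x * c) * g⁻¹ := by group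
  have e4 : (g * c * g⁻¹) * (g * x * g⁻¹) = g * (c * x) * g⁻¹ := by group
  rw [e3, e4, mul_left_inj, mul_right_inj]

/-- The norm of an irreducible character. -/
theorem sum_normSq_irr [Fintype G] {χ : G → ℂ} (hχ : IsIrrCharacter G χ) :
    ∑ g : G, Complex.normSq (χ g) = Nat.card G := by
  have h := classInner_irr_self hχ
  rw [classInner_def, inv_mul_eq_iff_eq_mul₀ card_ne_zero_complex, mul_one] at h
  have h1 : ((∑ g : G, Complex.normSq (χ g) : ℝ) : ℂ) = ((Nat.card G : ℝ) : ℂ) := by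
    push_cast
    rw [← h]
    refine Finset.sum_congr rfl fun g _ => ?_
    rw [Complex.normSq_eq_conj_mul_self, mul_comm]
  exact_mod_cast h1

/-- The elements of the conjugates of `C` contribute less than `1` to the norm. -/
theorem sum_lt [Finite G] (hC : ∀ c ∈ C, c ≠ 1 → Subgroup.centralizer {c} = C) {χ : G → ℂ}
    (hχ : IsIrrCharacter G χ) {d w : ℕ} (hd : χ 1 = d) (hw : Nat.card (Subgroup.normalizer (C : Set G)) = w * Nat.card C)
    [Fintype C] : ∑ c : C, Complex.normSq (χ c) < d ^ 2 + w * Nat.card C := by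
  classical
  have := Fintype.ofFinite G
  have := Fintype.ofFinite (G ⧸ Subgroup.normalizer (C : Set G))
  set N : Subgroup G := Subgroup.normalizer (C : Set G) with hN
  let f : G → ℝ := fun g => Complex.normSq (χ g)
  have hf0 : ∀ g, 0 ≤ f g := fun g => Complex.normSq_nonneg _
  have hd0 : 0 < d := by
    obtain ⟨n, hn, hn1⟩ := isIrr_apply_one hχ
    rw [hd] at hn1
    have : d = n := by exact_mod_cast hn1
    omega
  have hf1 : f 1 = d ^ 2 := by
    change Complex.normSq (χ 1) = _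
    rw [hd, Complex.normSq_natCast, sq]
  let Φ : Option ((G ⧸ N) × {c : C // c ≠ 1}) → G := fun o =>
    o.elim 1 fun x => x.1.out * (x.2.1 : G) * (x.1.out)⁻¹
  have hΦ : Function.Injective Φ := by
    intro o o' h
    match o, o' with
    | none, none => rfl
    | none, some x =>
      exfalso
      change 1 = x.1.out * (x.2.1 : G) * (x.1.out)⁻¹ at h
      exact x.2.2 (Subtype.ext ((conj_eq_one_iff).1 h.symm))
    | some x, none =>
      exfalso
      change x.1.out * (x.2.1 : G) * (x.1.out)⁻¹ = 1 at h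
      exact x.2.2 (Subtype.ext ((conj_eq_one_iff).1 h))
    | some x, some y =>
      change x.1.out * (x.2.1 : G) * (x.1.out)⁻¹ = y.1.out * (y.2.1 : G) * (y.1.out)⁻¹ at h
      have h1 : ((y.1.out)⁻¹ * x.1.out) * (x.2.1 : G) * ((y.1.out)⁻¹ * x.1.out)⁻¹ = (y.2.1 : G) := by
        calc ((y.1.out)⁻¹ * x.1.out) * (x.2.1 : G) * ((y.1.out)⁻¹ * x.1.out)⁻¹
            = (y.1.out)⁻¹ * (x.1.out * (x.2.1 : G) * (x.1.out)⁻¹) * y.1.out := by group
          _ = (y.2.1 : G) := by rw [h]; group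
      have h2 : (y.1.out)⁻¹ * x.1.out ∈ N := by
        apply mem_normalizer_of_cc hC x.2.1.2 (fun h => x.2.2 (Subtype.ext h))
        rw [h1]
        exact y.2.1.2
      have h3 : y.1 = x.1 := by
        rw [← QuotientGroup.out_eq' y.1, ← QuotientGroup.out_eq' x.1]
        exact QuotientGroup.eq.2 h2
      have h4 : x.2.1 = y.2.1 := by
        rw [h3] at h
        exact Subtype.ext (mul_left_cancel (mul_right_cancel h))
      exact congrArg some (Prod.ext h3.symm (Subtype.ext h4))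
  have h1 : ∑ o, f (Φ o) ≤ ∑ g, f g := by
    have h := Finset.sum_map Finset.univ (⟨Φ, hΦ⟩ : _ ↪ G) f
    rw [show ∑ o, f (Φ o) = ∑ g ∈ Finset.univ.map (⟨Φ, hΦ⟩ : _ ↪ G), f g from h.symm]
    exact Finset.sum_le_sum_of_subset_of_nonneg (Finset.subset_univ _) fun g _ _ => hf0 g
  have hcl : ∀ x : (G ⧸ N) × {c : C // c ≠ 1}, f (Φ (some x)) = f x.2.1 := by
    intro x
    change Complex.normSq (χ (x.1.out * (x.2.1 : G) * (x.1.out)⁻¹)) = Complex.normSq (χ x.2.1)
    rw [isIrr_isClassFunction hχ]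
  have h2 : ∑ o, f (Φ o) = d ^ 2 + Nat.card (G ⧸ N) * ∑ c : {c : C // c ≠ 1}, f c.1 := by
    rw [Fintype.sum_option]
    congr 1
    rw [Finset.sum_congr rfl fun x _ => hcl x, Fintype.sum_prod_type]
    change ∑ _x : G ⧸ N, ∑ c : {c : C // c ≠ 1}, f c.1 = _
    rw [Finset.sum_const, Finset.card_univ, nsmul_eq_mul, Nat.card_eq_fintype_card]
  have h3 : ∑ c : C, f c = d ^ 2 + ∑ c : {c : C // c ≠ 1}, f c.1 := by
    have h := Fintype.sum_eq_add_sum_subtype_ne (fun c : C => f c) 1
    rw [h]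
    congr 1
  have h4 : (Nat.card G : ℝ) = Nat.card (G ⧸ N) * (w * Nat.card C) := by
    have := Subgroup.card_eq_card_quotient_mul_card_subgroup N
    rw [this, hw]
    push_cast
    ring
  have h5 : ∑ g, f g = Nat.card G := sum_normSq_irr hχ
  rw [h2, h5, h4] at h1
  change ∑ c : C, f c < _
  rw [h3]
  have h6 : (0 : ℝ) < Nat.card (G ⧸ N) := by exact_mod_cast Nat.card_pos
  have h7 : (0 : ℝ) < (d : ℝ) ^ 2 := by positivity
  have h8 : ∑ c : {c : C // c ≠ 1}, f c.1 < w * Nat.card C := by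
    by_contra hge
    push Not at hge
    have := mul_le_mul_of_nonneg_left hge h6.le
    linarith only [h1, h7, this]
  linarith only [h8]

/-! ### The action of the normalizer on the linear characters -/

/-- the action of `N(C)` on the nontrivial linear characters of `C` -/
@[reducible]
noncomputable def dualAction (C : Subgroup G) :
    MulAction (Subgroup.normalizer (C : Set G)) {l : C →* ℂˣ // l ≠ 1} where
  smul n l := ⟨l.1.comp (C.normalizerMonoidHom n⁻¹ : C ≃* C).toMonoidHom, fun h => l.2 (by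
    ext c
    have h1 := DFunLike.congr_fun h ((C.normalizerMonoidHom n⁻¹ : C ≃* C).symm c)
    change l.1 ((C.normalizerMonoidHom n⁻¹ : C ≃* C) ((C.normalizerMonoidHom n⁻¹ : C ≃* C).symm c)) = 1 at h1
    rw [MulEquiv.apply_symm_apply] at h1
    rw [h1]
    rfl)⟩
  one_smul l := Subtype.ext (by
    ext c
    change ((l.1 ((C.normalizerMonoidHom 1⁻¹ : C ≃* C) c) : ℂˣ) : ℂ) = _
    rw [inv_one, map_one]
    rfl)
  mul_smul a b l := Subtype.ext (by
    ext c
    change ((l.1 ((C.normalizerMonoidHom (a * b)⁻¹ : C ≃* C) c) : ℂˣ) : ℂ) =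
      ((l.1 ((C.normalizerMonoidHom b⁻¹ : C ≃* C) ((C.normalizerMonoidHom a⁻¹ : C ≃* C) c)) : ℂˣ) : ℂ)
    rw [mul_inv_rev, map_mul]
    rfl)

theorem norm_apply (n : Subgroup.normalizer (C : Set G)) (c : C) :
    ((C.normalizerMonoidHom n c : C) : G) = n * c * (n : G)⁻¹ := rfl

/-- the stabiliser of a nontrivial linear character -/
theorem stab_dual (hC : ∀ c ∈ C, c ≠ 1 → Subgroup.centralizer {c} = C) [Finite C] (l : {l : C →* ℂˣ // l ≠ 1})
    (n : Subgroup.normalizer (C : Set G)) :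
    (letI := dualAction C; n • l = l) ↔ (n : G) ∈ C := by
  have hcomm := comm_of_cc hC
  constructor
  · intro h
    by_contra hn
    have h1 : ∀ c : C, l.1 (C.normalizerMonoidHom n⁻¹ c) = l.1 c := fun c =>
      DFunLike.congr_fun (congrArg Subtype.val h) c
    -- the map `c ↦ n⁻¹ c n c⁻¹` is injective
    obtain ⟨σ, hσ⟩ : ∃ σ : C ≃* C, ∀ c, σ c = C.normalizerMonoidHom n⁻¹ c := ⟨C.normalizerMonoidHom n⁻¹, fun _ => rfl⟩
    let f : C → C := fun c => σ c * c⁻¹
    have hf : Function.Injective f := by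
      intro a b hab
      change σ a * a⁻¹ = σ b * b⁻¹ at hab
      have h2 : σ (a * b⁻¹) = a * b⁻¹ := by
        have h3 : σ a = σ b * (b⁻¹ * a) := by rw [← mul_assoc, ← hab, inv_mul_cancel_right]
        rw [map_mul, map_inv, h3, hcomm (σ b), mul_inv_cancel_right, hcomm]
      by_contra hne
      have h3 : (a * b⁻¹ : C) ≠ 1 := fun h => hne (mul_inv_eq_one.1 h)
      apply hn
      have h5 : (n : G) ∈ Subgroup.centralizer {((a * b⁻¹ : C) : G)} := by
        rw [Subgroup.mem_centralizer_singleton_iff]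
        have h4 := congrArg Subtype.val h2
        rw [hσ, norm_apply] at h4
        change (n : G)⁻¹ * ((a * b⁻¹ : C) : G) * ((n : G)⁻¹)⁻¹ = _ at h4
        rw [inv_inv] at h4
        generalize ((a * b⁻¹ : C) : G) = x at h4
        calc (n : G) * x = n * ((n : G)⁻¹ * x * n) := by rw [h4]
          _ = x * n := by group
      rwa [hC _ (a * b⁻¹ : C).2 (fun h => h3 (Subtype.ext h))] at h5
    have hs := Finite.surjective_of_injective hf
    apply l.2
    ext c
    obtain ⟨b, rfl⟩ := hs c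
    change ((l.1 (σ b * b⁻¹) : ℂˣ) : ℂ) = 1
    rw [map_mul, hσ, h1, map_inv, mul_inv_cancel, Units.val_one]
  · intro h
    apply Subtype.ext
    ext c
    change ((l.1 (C.normalizerMonoidHom n⁻¹ c) : ℂˣ) : ℂ) = _
    have h2 : C.normalizerMonoidHom n⁻¹ c = c := by
      apply Subtype.ext
      rw [norm_apply]
      have h3 := congrArg Subtype.val (hcomm ⟨_, h⟩ c)
      change (n : G) * c = c * n at h3
      change (n : G)⁻¹ * c * ((n : G)⁻¹)⁻¹ = c
      rw [inv_inv, mul_assoc, ← h3, inv_mul_cancel_left]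
    rw [h2]

/-- the orbits on the nontrivial linear characters have length `|N(C) : C|` -/
theorem card_orbit_dual [Finite G] (hC : ∀ c ∈ C, c ≠ 1 → Subgroup.centralizer {c} = C) {w : ℕ}
    (hw : Nat.card (Subgroup.normalizer (C : Set G)) = w * Nat.card C) (l : {l : C →* ℂˣ // l ≠ 1}) :
    (letI := dualAction C; (MulAction.orbit (Subgroup.normalizer (C : Set G)) l).ncard) = w := by
  let _ := dualAction C
  change (MulAction.orbit (Subgroup.normalizer (C : Set G)) l).ncard = w
  have h1 : MulAction.stabilizer (Subgroup.normalizer (C : Set G)) l =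
      C.subgroupOf (Subgroup.normalizer (C : Set G)) := by
    ext n
    rw [MulAction.mem_stabilizer_iff, Subgroup.mem_subgroupOf]
    exact stab_dual hC l n
  have h2 : C ≤ Subgroup.normalizer (C : Set G) := Subgroup.le_normalizer
  rw [← MulAction.index_stabilizer, h1]
  have h3 := Subgroup.card_mul_index (C.subgroupOf (Subgroup.normalizer (C : Set G)))
  rw [Nat.card_congr (Subgroup.subgroupOfEquivOfLe h2).toEquiv, hw, mul_comm] at h3
  exact Nat.eq_of_mul_eq_mul_right Nat.card_pos h3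

end cc

/-- sum of an invariant function when all orbits have the same size -/
theorem sum_orbits {N X : Type*} [Group N] [MulAction N X] [Fintype X] [Fintype (Quotient (MulAction.orbitRel N X))]
    {w : ℕ} (hw : ∀ x : X, (MulAction.orbit N x).ncard = w) (g : X → ℕ) (hg : ∀ (n : N) (x : X), g (n • x) = g x) :
    ∑ x, g x = w * ∑ q : Quotient (MulAction.orbitRel N X), g q.out := by
  classical
  rw [← Finset.sum_fiberwise Finset.univ (fun x : X => (Quotient.mk _ x : Quotient (MulAction.orbitRel N X))) g,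
    Finset.mul_sum]
  refine Finset.sum_congr rfl fun q _ => ?_
  have h1 : ∀ x : X, (Quotient.mk _ x : Quotient (MulAction.orbitRel N X)) = q ↔ x ∈ MulAction.orbit N q.out := by
    intro x
    rw [← MulAction.orbitRel_apply]
    constructor
    · intro h
      rw [← h]
      exact Setoid.symm' _ (Quotient.mk_out x)
    · intro h
      rw [← Quotient.out_eq q]
      exact Quotient.sound h
  have h2 : ∀ x ∈ Finset.univ.filter (fun x : X => (Quotient.mk _ x : Quotient (MulAction.orbitRel N X)) = q),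
      g x = g q.out := by
    intro x hx
    obtain ⟨n, hn⟩ := (h1 x).1 (Finset.mem_filter.1 hx).2
    rw [← hn]
    exact hg n _
  rw [Finset.sum_congr rfl h2, Finset.sum_const, smul_eq_mul]
  congr 1
  rw [← hw q.out, ← Set.ncard_coe_finset]
  congr 1
  ext x
  simp only [Finset.coe_filter, Finset.mem_univ, true_and, Set.mem_ofPred_eq]
  exact h1 x

section cc

variable {G : Type u} [Group G] {C : Subgroup G}

/-- **The degree of an irreducible character without `C`-fixed vectors.** -/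
theorem degree_of_cc [Finite G] (hC1 : C ≠ ⊥) (hC : ∀ c ∈ C, c ≠ 1 → Subgroup.centralizer {c} = C) {w : ℕ}
    (hw : Nat.card (Subgroup.normalizer (C : Set G)) = w * Nat.card C) {χ : G → ℂ} (hχ : IsIrrCharacter G χ) {d : ℕ}
    (hd : χ 1 = d) (h0 : ∑ᶠ c : C, χ c = 0) :
    (∃ n : ℕ, n ^ 2 < Nat.card C ∧ d = w * n) ∨
      ∃ k : ℕ, k ^ 2 * (Nat.card C - 1) < w * Nat.card C ∧ d = k * (Nat.card C - 1) := by
  classical
  have hcomm := comm_of_cc hC
  have := Fintype.ofFinite C
  have := finite_dual' hcomm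
  have := Fintype.ofFinite (C →* ℂˣ)
  rw [finsum_eq_sum_of_fintype] at h0
  obtain ⟨m, hm⟩ := exists_mult' hcomm (isCharacter_comp C.subtype (isIrr_isCharacter hχ))
  have hm' : ∀ x : C, χ x = ∑ l : C →* ℂˣ, (m l : ℂ) * ((l x : ℂˣ) : ℂ) := hm
  set t := Nat.card C with ht
  have ht0 : (t : ℂ) ≠ 0 := card_ne_zero_complex
  have ht2 : 2 ≤ t := by
    have h1 : 1 < Nat.card C := by
      rw [Subgroup.one_lt_card_iff_ne_bot]
      exact hC1
    exact h1
  have hw0 : 0 < w := by
    rcases Nat.eq_zero_or_pos w with h | h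
    · rw [h, zero_mul] at hw
      exact absurd hw Nat.card_pos.ne'
    · exact h
  have hm1 : m 1 = 0 := by
    have h1 := sum_mul_conj_of_mult (χ := fun c : C => χ c) (m := fun l => (m l : ℂ)) hm' 1
    have h2 : ∑ x : C, χ x * conj (((1 : C →* ℂˣ) x : ℂˣ) : ℂ) = ∑ x : C, χ x :=
      Finset.sum_congr rfl fun x _ => by simp
    rw [h2, h0] at h1
    have h3 : (m 1 : ℂ) = 0 := (mul_eq_zero.1 h1.symm).resolve_right ht0
    exact_mod_cast h3
  let _ := dualAction C
  let X := {l : C →* ℂˣ // l ≠ 1}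
  have hinv : ∀ (n : Subgroup.normalizer (C : Set G)) (l : X), m (n • l).1 = m l.1 := by
    intro n l
    have h1 := sum_mul_conj_of_mult (χ := fun c : C => χ c) (m := fun l => (m l : ℂ)) hm' (n • l).1
    have h2 := sum_mul_conj_of_mult (χ := fun c : C => χ c) (m := fun l => (m l : ℂ)) hm' l.1
    have h3 : ∑ x : C, χ x * conj (((n • l).1 x : ℂˣ) : ℂ) = ∑ x : C, χ x * conj ((l.1 x : ℂˣ) : ℂ) := by
      refine Fintype.sum_equiv (C.normalizerMonoidHom n⁻¹ : C ≃* C).toEquiv _ _ fun x => ?_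
      have h4 : χ ((C.normalizerMonoidHom n⁻¹ x : C) : G) = χ x := by
        rw [norm_apply]
        exact isIrr_isClassFunction hχ _ _
      change χ x * conj ((l.1 (C.normalizerMonoidHom n⁻¹ x) : ℂˣ) : ℂ) =
        χ ((C.normalizerMonoidHom n⁻¹ x : C) : G) * conj ((l.1 (C.normalizerMonoidHom n⁻¹ x) : ℂˣ) : ℂ)
      rw [h4]
    rw [h3, h2] at h1
    have h5 := mul_right_cancel₀ ht0 h1
    exact_mod_cast h5.symm
  have horb : ∀ x : X, (MulAction.orbit (Subgroup.normalizer (C : Set G)) x).ncard = w := fun x =>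
    card_orbit_dual hC hw x
  have := Fintype.ofFinite (Quotient (MulAction.orbitRel (Subgroup.normalizer (C : Set G)) X))
  let Ω := Quotient (MulAction.orbitRel (Subgroup.normalizer (C : Set G)) X)
  let n : Ω → ℕ := fun q => m q.out.1
  have e1 : t = w * Fintype.card Ω + 1 := by
    have h1 := sum_orbits horb (fun _ => 1) (fun _ _ => rfl)
    rw [Finset.sum_const, Finset.sum_const, Finset.card_univ, Finset.card_univ, smul_eq_mul, smul_eq_mul, mul_one,
      mul_one] at h1
    have h2 : Fintype.card X + 1 = t := by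
      rw [ht, ← card_dual' hcomm, Nat.card_eq_fintype_card, Fintype.card_subtype_compl, Fintype.card_subtype_eq]
      have : 0 < Fintype.card (C →* ℂˣ) := Fintype.card_pos
      omega
    rw [← h2]
    exact congrArg (· + 1) h1
  have e2 : d = w * ∑ q, n q := by
    have h1 := sum_orbits horb (fun x => m x.1) hinv
    have h2 : d = ∑ l, m l := by
      have h3 := hm' 1
      rw [Subgroup.coe_one, hd] at h3
      have h4 : ∑ l : C →* ℂˣ, (m l : ℂ) * ((l 1 : ℂˣ) : ℂ) = ∑ l, (m l : ℂ) :=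
        Finset.sum_congr rfl fun l _ => by rw [map_one, Units.val_one, mul_one]
      rw [h4] at h3
      exact_mod_cast h3
    rw [h2, Fintype.sum_eq_add_sum_subtype_ne _ 1, hm1, zero_add]
    exact h1
  have e3 : ∑ l, m l ^ 2 = w * ∑ q, n q ^ 2 := by
    have h1 := sum_orbits horb (fun x => m x.1 ^ 2) (fun a x => by rw [hinv])
    rw [Fintype.sum_eq_add_sum_subtype_ne _ 1, hm1, zero_pow two_ne_zero, zero_add]
    exact h1
  have e4 : t * ∑ l, m l ^ 2 < d ^ 2 + w * t := by
    have h1 := sum_lt hC hχ hd hw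
    rw [sum_normSq hm'] at h1
    exact_mod_cast h1
  have e5 : t * ∑ q, n q ^ 2 < t + w * (∑ q, n q) ^ 2 := by
    rw [e3, e2] at e4
    have h1 : w * (t * ∑ q, n q ^ 2) < w * (t + w * (∑ q, n q) ^ 2) := by
      calc w * (t * ∑ q, n q ^ 2) = t * (w * ∑ q, n q ^ 2) := by ring
        _ < (w * ∑ q, n q) ^ 2 + w * t := e4
        _ = w * (t + w * (∑ q, n q) ^ 2) := by ring
    exact Nat.lt_of_mul_lt_mul_left h1
  rcases arith n hw0 e1 ht2 e5 with h | ⟨k, hk, hk2⟩
  · exact Or.inl ⟨_, h, e2⟩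
  · refine Or.inr ⟨k, hk2, ?_⟩
    have h1 : ∑ q, n q = Fintype.card Ω * k := by
      rw [Finset.sum_congr rfl fun q _ => hk q, Finset.sum_const, Finset.card_univ, smul_eq_mul]
    rw [e2, h1]
    have h2 : t - 1 = w * Fintype.card Ω := by omega
    rw [h2]
    ring

/-- `w ≤ t - 1` -/
theorem w_le [Finite G] (hC1 : C ≠ ⊥) (hC : ∀ c ∈ C, c ≠ 1 → Subgroup.centralizer {c} = C) {w : ℕ}
    (hw : Nat.card (Subgroup.normalizer (C : Set G)) = w * Nat.card C) : w ≤ Nat.card C - 1 := by
  classical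
  have hcomm := comm_of_cc hC
  have := finite_dual' hcomm
  have := Fintype.ofFinite (C →* ℂˣ)
  have ht2 : 1 < Nat.card (C →* ℂˣ) := by
    rw [card_dual' hcomm, Subgroup.one_lt_card_iff_ne_bot]
    exact hC1
  have h1 : ∃ l : C →* ℂˣ, l ≠ 1 := by
    by_contra hcon
    push Not at hcon
    have : Nat.card (C →* ℂˣ) ≤ 1 := by
      rw [Finite.card_le_one_iff_subsingleton]
      exact ⟨fun a b => by rw [hcon a, hcon b]⟩
    omega
  obtain ⟨l, hl⟩ := h1
  let _ := dualAction C
  rw [← card_orbit_dual hC hw ⟨l, hl⟩]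
  refine (Set.ncard_le_card _).trans ?_
  rw [← card_dual' hcomm, Nat.card_eq_fintype_card, Nat.card_eq_fintype_card, Fintype.card_subtype_compl,
    Fintype.card_subtype_eq]

end cc

end Cfsg.Agent.H937.CC

namespace Cfsg.Agent.H430.Conj

open Cfsg.Agent.Characters.Core

universe u

section cc

variable {G : Type u} [Group G] [Finite G] [IsSimpleGroup G]

/-- **Tool M**: `C` is a CC-subgroup of order `t`, `w = |N(C) : C|`. A nontrivial irreducible character without
`C`-fixed vectors has degree `k (t - 1)` with `k ^ 2 (t - 1) < w t`, or degree `w n` with `n ^ 2 < t`. -/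
theorem row_of_cc' {C : Subgroup G} (hC1 : C ≠ ⊥) (hC : ∀ c ∈ C, c ≠ 1 → Subgroup.centralizer {c} = C) {w : ℕ}
    (hw : Nat.card (Subgroup.normalizer (C : Set G)) = w * Nat.card C)
    (hd : ∀ (χ : G → ℂ) (d : ℕ), IsIrrCharacter G χ → χ ≠ 1 → χ 1 = d →
      (∀ n : ℕ, n ^ 2 < Nat.card C → d ≠ w * n) ∧
      ∀ k : ℕ, k ^ 2 * (Nat.card C - 1) < w * Nat.card C → d ≠ k * (Nat.card C - 1)) : Row G := by
  intro χ hχ
  obtain ⟨c, hc1⟩ := Subgroup.ne_bot_iff_exists_ne_one.1 hC1
  refine ⟨c, ?_⟩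
  rw [hC c c.2 (fun h => hc1 (Subtype.ext h))]
  intro h0
  by_cases h1 : χ = 1
  · subst h1
    have := Fintype.ofFinite C
    rw [finsum_eq_sum_of_fintype] at h0
    simp only [_root_.Pi.one_apply, _root_.Finset.sum_const, _root_.Finset.card_univ, _root_.nsmul_eq_mul, _root_.mul_one, _root_.Nat.cast_eq_zero, _root_.Fintype.card_ne_zero] at h0
  · obtain ⟨d, -, hd1⟩ := isIrr_apply_one hχ
    obtain ⟨ha, hb⟩ := hd χ d hχ h1 hd1
    rcases Cfsg.Agent.H937.CC.degree_of_cc hC1 hC hw hχ hd1 h0 with ⟨n, hn, h⟩ | ⟨k, hk, h⟩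
    · exact ha n hn h
    · exact hb k hk h

/-- **Tool M, basic form**: `C` is a CC-subgroup of order `t`. -/
theorem row_of_cc {C : Subgroup G} (hC1 : C ≠ ⊥) (hC : ∀ c ∈ C, c ≠ 1 → Subgroup.centralizer {c} = C)
    (hd : ∀ (χ : G → ℂ) (d : ℕ), IsIrrCharacter G χ → χ ≠ 1 → χ 1 = d →
      (Nat.card C) ^ 2 * (Nat.card C - 1) ≤ d ^ 2) : Row G := by
  have h1 : Nat.card C ∣ Nat.card (Subgroup.normalizer (C : Set G)) :=
    Subgroup.card_dvd_of_le Subgroup.le_normalizer
  obtain ⟨w, hw⟩ := h1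
  rw [mul_comm] at hw
  have hwt := Cfsg.Agent.H937.CC.w_le hC1 hC hw
  have ht : 1 < Nat.card C := by
    rw [Subgroup.one_lt_card_iff_ne_bot]
    exact hC1
  apply row_of_cc' hC1 hC hw
  intro χ d hχ h1 hd1
  have h2 := hd χ d hχ h1 hd1
  obtain ⟨s, hs⟩ : ∃ s, Nat.card C = s + 1 := ⟨Nat.card C - 1, by omega⟩
  rw [hs] at h2 hwt ht ⊢
  rw [Nat.add_sub_cancel] at h2 hwt ⊢
  have hs0 : 0 < s := by omega
  constructor
  · rintro n hn rfl
    have h3 : (w * n) ^ 2 ≤ s ^ 2 * n ^ 2 := by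
      rw [mul_pow]
      exact Nat.mul_le_mul_right _ (Nat.pow_le_pow_left hwt 2)
    have h4 : s ^ 2 * n ^ 2 < s ^ 2 * (s + 1) := Nat.mul_lt_mul_of_pos_left hn (by positivity)
    linarith only [h2, h3, h4, _root_.sq_nonneg (↑s : ℤ)]
  · rintro k hk rfl
    have h3 : (k * s) ^ 2 = (k ^ 2 * s) * s := by ring
    have h4 : (k ^ 2 * s) * s < (w * (s + 1)) * s := Nat.mul_lt_mul_of_pos_right hk hs0
    have h5 : (w * (s + 1)) * s ≤ (s * (s + 1)) * s := Nat.mul_le_mul_right _ (Nat.mul_le_mul_right _ hwt)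
    nlinarith only [hwt, h2, h4]

end cc

end Cfsg.Agent.H430.Conj
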